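import Cfsg.Agent.H928.Ore.Block
import Cfsg.Agent.H777.Ore.Base
import Cfsg.Agent.Nodes.ChevChart

/-!
# One block of type `A`, one real class (helper122, for S2443 and S4171)

`rows` : `φ : SL_{n+2}(K) → D.group K` with image in `L_J`, `U_J ≤ φ(UT)`, `U_J⁻ ≤ φ(LT)`; `c ∈ SL_{n+2}(K)` such that every
`A ≠ 1` is a product of two conjugates of `c`, `φ c` has no fixed points on `V_J`, `V_J⁻` and is inverted by an element of
square one: then every element of `D.group K` is a commutator and a product of four elements of square one.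
-/

set_option autoImplicit false
set_option linter.unusedSectionVars false

namespace Cfsg.Agent.H122.Ore.Blk

open CoxeterSystem Cfsg.Agent.ChevalleyStructure.CoxeterGeom Cfsg.Agent.Tits.Roots Cfsg.Agent.Tits.Core
  Cfsg.Agent.Nodes.Reps Cfsg.Agent.Nodes.BNOf Cfsg.Agent.Nodes.RGDLib Cfsg.Agent.Nodes.Bruhat
  Cfsg.Agent.Nodes.OppDec Cfsg.Agent.Nodes.LeviDec Cfsg.Agent.Nodes.KindChev Cfsg.Agent.Nodes.ChevCls
  Cfsg.Agent.OddHalf.NI.ModelChev Cfsg.Agent.Nodes.StabComb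
  Cfsg.Agent.H162.GaussDec Cfsg.Agent.H162.GaussLevi Cfsg.Agent.H162.GaussSL Cfsg.Agent.H162.GaussMain
  Cfsg.Agent.H162.GaussExc
  Cfsg.Agent.H928.Ore.Frame Cfsg.Agent.H928.Ore.Fix Cfsg.Agent.H777.Ore
open Cfsg.Lie Cfsg.Agent.ChevalleyStructure Cfsg.Agent.ChevalleyStructure.Elts
  Cfsg.Agent.ChevalleyStructure.RootVec Cfsg.Agent.ChevalleyStructure.NPerm
  Cfsg.Agent.ChevalleyStructure.CoxeterGeomTypes Cfsg.Agent.Nodes.RGDChev Cfsg.Agent.KFacts.RgdChevCoord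

universe u

variable {D : ChevalleyDatum} {l : ℕ} {M : CoxeterMatrix (Fin l)} (hp : IsType D l M) {K : Type u} [Field K]

theorem rows [Finite K] (hl : 0 < l) (hG : IsSimpleGroup ↥(D.group K) ∧ ¬ IsMulCommutative ↥(D.group K))
    (hM : ∀ J : Finset (Fin l), J = ∅ ∨ J = Finset.univ ∨ ∃ a ∈ J, ∃ b, b ∉ J ∧ M a b ≠ 2) {J : Set (Fin l)} {n : ℕ}
    {φ : Matrix.SpecialLinearGroup (Fin (n + 2)) K →* ↥(D.group K)}
    (hr : ∀ A, φ A ∈ LJ M.toCoxeterSystem hp.isCartan (TT D K) (XX D l K) J)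
    (hU : UJ M.toCoxeterSystem hp.isCartan (XX D l K) J ≤ (UT (n + 2) K).map φ)
    (hUN : UNJ M.toCoxeterSystem hp.isCartan (XX D l K) J ≤ (LT (n + 2) K).map φ)
    {c : Matrix.SpecialLinearGroup (Fin (n + 2)) K}
    (hA : ∀ A : Matrix.SpecialLinearGroup (Fin (n + 2)) K, A ≠ 1 → ∃ g h, A = (g * c * g⁻¹) * (h * c * h⁻¹))
    (hinv : ∃ t : ↥(D.group K), t * t = 1 ∧ t * φ c * t⁻¹ = (φ c)⁻¹)
    (hNF : NF (VJ M.toCoxeterSystem hp.isCartan (XX D l K) J) (φ c))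
    (hNF' : NF (VNJ M.toCoxeterSystem hp.isCartan (XX D l K) J) (φ c)) :
    AllC ↥(D.group K) ∧ Inv4 ↥(D.group K) := by
  obtain ⟨p, hpc⟩ := CharP.exists K
  have : Fact p.Prime := ⟨(CharP.char_is_prime_or_zero K p).resolve_right (CharP.char_ne_zero_of_finite K p)⟩
  have hZ := Cfsg.Agent.Nodes.ChevChart.center_eq_bot hG
  have hW := finite_W hp M.toCoxeterSystem
  have := hG.1
  have : Nonempty (Fin l) := ⟨⟨0, hl⟩⟩
  have R := rgd (K := K) hp M.toCoxeterSystem p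
  obtain ⟨t, ht, hti⟩ := hinv
  -- conjugates
  have hnf : ∀ g, NF (VJ M.toCoxeterSystem hp.isCartan (XX D l K) J) (φ (g * c * g⁻¹)) ∧
      NF (VNJ M.toCoxeterSystem hp.isCartan (XX D l K) J) (φ (g * c * g⁻¹)) := by
    intro g
    rw [map_mul, map_mul, map_inv]
    exact ⟨NF.conj (LJ_le_normalizer_VJ R J (hr g)) hNF, NF.conj (LJ_le_normalizer_VNJ R J (hr g)) hNF'⟩
  have hconj : ∀ g h, ∃ y, φ (h * c * h⁻¹) = y * (φ (g * c * g⁻¹))⁻¹ * y⁻¹ := by
    intro g h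
    refine ⟨φ h * t⁻¹ * (φ g)⁻¹, ?_⟩
    have h1 : φ c = t⁻¹ * (φ c)⁻¹ * t := by rw [← hti]; group
    rw [map_mul, map_mul, map_inv, map_mul, map_mul, map_inv]
    conv_lhs => rw [h1]
    group
  have hinv2 : ∀ g, ∃ a b : ↥(D.group K), a ^ 2 = 1 ∧ b ^ 2 = 1 ∧ φ (g * c * g⁻¹) = a * b := by
    intro g
    have ht2 : t ^ 2 = 1 := by rw [pow_two, ht]
    have ht' : t⁻¹ = t := inv_eq_of_mul_eq_one_left ht
    refine ⟨φ g * (φ c * t) * (φ g)⁻¹, φ g * t * (φ g)⁻¹, ?_, ?_, ?_⟩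
    · have h1 : (φ c * t) ^ 2 = 1 := by
        rw [pow_two]
        calc φ c * t * (φ c * t) = φ c * (t * φ c * t⁻¹) * (t * t) := by group
          _ = 1 := by rw [hti, ht]; group
      rw [conj_pow, h1, mul_one, mul_inv_cancel]
    · rw [conj_pow, ht2, mul_one, mul_inv_cancel]
    · rw [map_mul, map_mul, map_inv]
      calc φ g * φ c * (φ g)⁻¹ = φ g * (φ c * (t * t)) * (φ g)⁻¹ := by rw [ht, mul_one]
        _ = _ := by group
  have hfac : ∀ v ∈ UNJ M.toCoxeterSystem hp.isCartan (XX D l K) J, ∀ u ∈ UJ M.toCoxeterSystem hp.isCartan (XX D l K) J,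
      (∃ g h, v * u = φ (g * c * g⁻¹) * φ (h * c * h⁻¹)) ∨ v * u = φ c * (φ c)⁻¹ := by
    intro v hv u hu
    obtain ⟨L, -, rfl⟩ := hUN hv
    obtain ⟨U, -, rfl⟩ := hU hu
    by_cases h1 : L * U = 1
    · right
      rw [← map_mul, h1, map_one, mul_inv_cancel]
    · obtain ⟨g, h, e⟩ := hA _ h1
      left
      exact ⟨g, h, by rw [← map_mul, e, map_mul]⟩
  have hcore : ∀ g : ↥(D.group K), g ∈ (RGD.B M.toCoxeterSystem hp.isCartan (TT D K) (XX D l K)).normalCore → g = 1 := by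
    intro g hg
    have h1 := core_le_ker R (MonoidHom.id ↥(D.group K)) Function.surjective_id (fun x hx => by
      rw [MonoidHom.mem_ker] at hx
      change x = 1 at hx
      rw [hx]
      exact one_mem _) hg
    rw [MonoidHom.mem_ker] at h1
    exact h1
  have hc1 : φ c = φ (1 * c * 1⁻¹) := by rw [one_mul, inv_one, mul_one]
  constructor
  · intro g
    by_cases hg : g ∈ (RGD.B M.toCoxeterSystem hp.isCartan (TT D K) (XX D l K)).normalCore
    · rw [hcore g hg]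
      exact isC_one
    · refine comm R (G1_eq_top hp _) (coord hp) (Cfsg.Agent.Nodes.ChevChart.irr_of hM) (J := J) (fun v hv u hu => ?_) hg
      rcases hfac v hv u hu with ⟨g, h, e⟩ | e
      · exact ⟨_, _, e, ⟨hr _, hr _, (hnf g).2, (hnf h).1⟩, hconj g h⟩
      · exact ⟨_, _, e, ⟨hr _, inv_mem (hr _), hNF', NF.inv hNF⟩, 1, by rw [one_mul, inv_one, mul_one]⟩
  · intro g
    by_cases hg : g ∈ (RGD.B M.toCoxeterSystem hp.isCartan (TT D K) (XX D l K)).normalCore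
    · rw [hcore g hg]
      exact ⟨1, 1, 1, 1, by simp, by simp, by simp, by simp, by simp⟩
    · obtain ⟨a, b, c', d, ha, hb, hc', hd, e⟩ := four R (G1_eq_top hp _) (coord hp)
        (Cfsg.Agent.Nodes.ChevChart.irr_of hM) (J := J) (fun v hv u hu => by
          rcases hfac v hv u hu with ⟨g, h, e⟩ | e
          · exact ⟨_, _, e, ⟨hr _, hr _, (hnf g).2, (hnf h).1⟩, hinv2 g, hinv2 h⟩
          · refine ⟨_, _, e, ⟨hr _, inv_mem (hr _), hNF', NF.inv hNF⟩, ?_, ?_⟩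
            · rw [hc1]; exact hinv2 1
            · obtain ⟨a, b, ha, hb, h1⟩ := hinv2 1
              rw [hc1, h1]
              exact ⟨b⁻¹, a⁻¹, by rw [inv_pow, hb, inv_one], by rw [inv_pow, ha, inv_one], mul_inv_rev a b⟩) hg
      rw [pow_two] at ha hb hc' hd
      exact ⟨a, b, c', d, ha, hb, hc', hd, e⟩

end Cfsg.Agent.H122.Ore.Blk
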