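import Cfsg.Agent.H122.Ore.Blk
import Cfsg.Agent.H335.Sr.Chev
import Cfsg.Agent.H335.Sr.Symm
import Cfsg.Agent.H162.GaussExcMain

/-!
# Real elements of a block (helper122, for S2443 and S4171)

`inv_of_irr` : `w₀ = -1`, `c` with irreducible characteristic polynomial: `φ c` is inverted by an element of square one.
-/

set_option autoImplicit false
set_option linter.unusedSectionVars false

namespace Cfsg.Agent.H122.Ore.Blk

open CoxeterSystem Cfsg.Agent.ChevalleyStructure.CoxeterGeom Cfsg.Agent.Tits.Roots Cfsg.Agent.Tits.Core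
  Cfsg.Agent.Nodes.Reps Cfsg.Agent.Nodes.BNOf Cfsg.Agent.Nodes.RGDLib Cfsg.Agent.Nodes.Bruhat
  Cfsg.Agent.Nodes.OppDec Cfsg.Agent.Nodes.LeviDec Cfsg.Agent.Nodes.KindChev Cfsg.Agent.Nodes.ChevCls
  Cfsg.Agent.OddHalf.NI.ModelChev Cfsg.Agent.Nodes.StabComb
  Cfsg.Agent.H162.GaussDec Cfsg.Agent.H162.GaussLevi Cfsg.Agent.H162.GaussSL Cfsg.Agent.H162.GaussMain
  Cfsg.Agent.H162.GaussExc
  Cfsg.Agent.H928.Ore.Frame Cfsg.Agent.H928.Ore.Fix Cfsg.Agent.H777.Ore
open Cfsg.Lie Cfsg.Agent.ChevalleyStructure Cfsg.Agent.ChevalleyStructure.Elts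
  Cfsg.Agent.ChevalleyStructure.RootVec Cfsg.Agent.ChevalleyStructure.NPerm
  Cfsg.Agent.ChevalleyStructure.CoxeterGeomTypes Cfsg.Agent.Nodes.RGDChev Cfsg.Agent.KFacts.RgdChevCoord

universe u

variable {D : ChevalleyDatum} {l : ℕ} {M : CoxeterMatrix (Fin l)} (hp : IsType D l M) {K : Type u} [Field K]

include hp in
/-- `-1` in the Weyl group -/
theorem rep_neg_of {ω : List (Fin l)} (h : ∀ i : Fin l, fr D ω (D.simple i) = D.neg (D.simple i)) (x : Fin l → ℤ) :
    rep M.toCoxeterSystem hp.isCartan (M.toCoxeterSystem.wordProd ω) x = -x := by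
  have h1 : ∀ i, rep M.toCoxeterSystem hp.isCartan (M.toCoxeterSystem.wordProd ω) (sr i) = -sr i := by
    intro i
    have hi := simple_lt hp.inList (lt_rank hp i)
    have h2 := fr_vec hp M.toCoxeterSystem ω hi
    rw [h, vec_neg hp hi, vec_simple hp i] at h2
    exact h2.symm
  have h2 : x = ∑ k, x k • sr k := by
    funext k
    rw [Finset.sum_apply, Finset.sum_eq_single k (fun b _ hb => by
      rw [Pi.smul_apply, sr_ne hb.symm, smul_zero]) (by simp), Pi.smul_apply, sr_self, smul_eq_mul, mul_one]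
  conv_lhs => rw [h2]
  conv_rhs => rw [h2]
  rw [map_sum, ← Finset.sum_neg_distrib]
  refine Finset.sum_congr rfl fun k _ => ?_
  rw [map_smul, h1, smul_neg]

theorem inv_of_irr [Finite K] {w : M.Group} (hw : ∀ x, rep M.toCoxeterSystem hp.isCartan w x = -x) {n : ℕ}
    {r : Fin (n + 2) → Fin (n + 2) → ℕ} {ε : ℤ} (hε : ε * ε = 1) (hr : ∀ a b, a ≠ b → r a b < D.nroots)
    (hneg : ∀ a b, a ≠ b → r b a = D.neg (r a b))
    {φ : Matrix.SpecialLinearGroup (Fin (n + 2)) K →* ↥(D.group K)}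
    (hφ : ∀ a b (hab : a ≠ b) c, φ (Matrix.SpecialLinearGroup.transvection hab c) =
      xc hp (vec D l (r a b)) ((ε : K) * c)) {c : Matrix.SpecialLinearGroup (Fin (n + 2)) K}
    (hc : Irreducible (c : Matrix (Fin (n + 2)) (Fin (n + 2)) K).charpoly) :
    ∃ t : ↥(D.group K), t * t = 1 ∧ t * φ c * t⁻¹ = (φ c)⁻¹ := by
  obtain ⟨p, hpc⟩ := CharP.exists K
  have : Fact p.Prime := ⟨(CharP.char_is_prime_or_zero K p).resolve_right (CharP.char_ne_zero_of_finite K p)⟩
  have R := rgd (K := K) hp M.toCoxeterSystem p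
  obtain ⟨e, z, Z⟩ := H335.Sr.exists_ZD_neg hp M.toCoxeterSystem R.nsys hw
  have hεK : (ε : K) * (ε : K) = 1 := by rw [← Int.cast_mul, hε, Int.cast_one]
  obtain ⟨S, h1, h2⟩ := Z.inv_block (r := r) (s := fun _ _ => (ε : K)) hr hneg (fun a b _ => hw _) (fun _ _ _ => hεK) hφ
    (fun _ => rfl) (s₀ := 1) (one_mem _) (fun _ => rfl) (fun A => by rw [one_mul, mul_one]) (X := c)
    (fun δ _ => H335.Sr.exists_symm _ hc δ)
  rw [one_mul] at h2
  exact ⟨_, h1, h2⟩

theorem frE8 : ∀ i : Fin 8, fr chevE8 H162.GaussExcMain.w8 (chevE8.simple i) = chevE8.neg (chevE8.simple i) := by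
  decide +kernel

theorem frE7 : ∀ i : Fin 7, fr chevE7 H162.GaussExcMain.w7 (chevE7.simple i) = chevE7.neg (chevE7.simple i) := by
  decide +kernel

end Cfsg.Agent.H122.Ore.Blk
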