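import Cfsg.Agent.H122.Ore.Exp
import Cfsg.Agent.H122.Ore.Inv
import Cfsg.Agent.H85.Ore.Blk
import Cfsg.Agent.H934.MF.Final
import Cfsg.Agent.H482.Ore.Block

/-!
# The group `E_8(2)` : products of two conjugates (helper122, for S2443 and S4171)

`allC_E8_two`, `inv4_E8_two` : for a field `K` with two elements, `AllC` and `Inv4` for `chevE8.group K`.
-/

set_option autoImplicit false
set_option linter.unusedSectionVars false

namespace Cfsg.Agent.H122.Ore.Blk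

open CoxeterSystem Cfsg.Agent.ChevalleyStructure.CoxeterGeom Cfsg.Agent.Tits.Roots Cfsg.Agent.Tits.Core
  Cfsg.Agent.Nodes.Reps Cfsg.Agent.Nodes.BNOf Cfsg.Agent.Nodes.RGDLib Cfsg.Agent.Nodes.Bruhat
  Cfsg.Agent.Nodes.OppDec Cfsg.Agent.Nodes.LeviDec Cfsg.Agent.Nodes.KindChev Cfsg.Agent.Nodes.ChevCls
  Cfsg.Agent.OddHalf.NI.ModelChev Cfsg.Agent.Nodes.StabComb
  Cfsg.Agent.H162.GaussDec Cfsg.Agent.H162.GaussLevi Cfsg.Agent.H162.GaussSL Cfsg.Agent.H162.GaussMain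
  Cfsg.Agent.H162.GaussExc
  Cfsg.Agent.H928.Ore.Frame Cfsg.Agent.H777.Ore Cfsg.Agent.H85.Ore
open Cfsg.Lie Cfsg.Agent.ChevalleyStructure Cfsg.Agent.ChevalleyStructure.Elts
  Cfsg.Agent.ChevalleyStructure.RootVec Cfsg.Agent.ChevalleyStructure.NPerm
  Cfsg.Agent.ChevalleyStructure.CoxeterGeomTypes Cfsg.Agent.Nodes.RGDChev Cfsg.Agent.KFacts.RgdChevCoord

universe u

theorem r8_simple' : ∀ a : Fin 7, r8 a.succ a.castSucc = chevE8.neg (chevE8.simple (j8 a)) := by decide +kernel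

/-- **`E_8(2)`.** -/
theorem row_E8_two {K : Type u} [Field K] (hK : Nat.card K = 2) :
    AllC ↥(chevE8.group K) ∧ Inv4 ↥(chevE8.group K) := by
  have : Finite K := Nat.finite_of_card_ne_zero (by rw [hK]; norm_num)
  have hc2 : CharP K 2 := by
    have : Fintype K := Fintype.ofFinite K
    exact charP_of_card_eq_prime (by rw [Fintype.card_eq_nat_card, hK])
  obtain ⟨φ, hφ⟩ := exists_phi8 K
  obtain ⟨c, hc, -, hA⟩ := H934.MF.cert8 hK
  obtain ⟨L, _, _, i, z, hz, -, hd⟩ := H934.MF.eig8 hK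
  obtain ⟨g, hg⟩ := hd _ hc
  obtain ⟨φ', hφ'⟩ := exists_phi8 L
  have : CharP L 2 := charP_of_injective_ringHom i.injective 2
  have : Fact (Nat.Prime 2) := ⟨Nat.prime_two⟩
  have hs : ∀ _ _ : Fin 8, (((-1 : ℤ) : K)) ≠ 0 := fun _ _ => by simp
  have B : H482.Ore.Fix.Bk Cfsg.Agent.Nodes.KindE.isType8 i {k | k ∈ J8} 6 r8 j8 φ φ' (fun _ _ => ((-1 : ℤ) : K)) :=
    { simp := ⟨r8_simple, r8_simple'⟩
      rlt := tab8.rlt
      rJ := tab8.rJ
      hφ := hφ
      hφ' := fun a b hab c => by rw [hφ' a b hab c, map_intCast]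
      ss := fun a => by norm_num }
  have hz0 : z ≠ 0 := by
    rintro rfl
    have h1 : orderOf (0 : L) = 0 := by
      rw [orderOf_eq_zero_iff']
      intro m hm
      rw [zero_pow hm.ne']
      exact zero_ne_one
    rw [h1] at hz
    norm_num at hz
  obtain ⟨n1, n2⟩ := H482.Ore.Fix.nf_block' Cfsg.Agent.Nodes.KindE.isType8 2 B hg (fun q hq hk => by
    have h1 := ne_one_two (n := 6) (by rw [hz]; norm_num) chkW8 hq hk
    rw [prod_wt (lam := fun b : Fin 8 => z ^ (2 ^ (b : ℕ))) (fun a => pow_ne_zero _ hz0)] at h1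
    exact h1)
  exact rows Cfsg.Agent.Nodes.KindE.isType8 (by norm_num) (Cfsg.Agent.S1054.result chevE8 (by simp))
    Cfsg.Agent.Nodes.ChevChart.irr8 (phi_mem Cfsg.Agent.Nodes.KindE.isType8 tab8 hφ)
    (UJ_le Cfsg.Agent.Nodes.KindE.isType8 tab8 (s := fun _ _ => ((-1 : ℤ) : K)) hs hφ)
    (UNJ_le Cfsg.Agent.Nodes.KindE.isType8 tab8 (s := fun _ _ => ((-1 : ℤ) : K)) hs hφ) hA
    (inv_of_irr Cfsg.Agent.Nodes.KindE.isType8 (rep_neg_of Cfsg.Agent.Nodes.KindE.isType8 frE8) (ε := -1) (by norm_num)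
      (fun a b hab => tab8.rlt a b hab) (fun a b hab => rt8.2.2.2 a b hab) hφ (by rw [hc]; exact H934.MF.irr8 hK)) n1 n2

/-- **`E_8(2)`: every nonidentity element is a product of two conjugates of one element.** -/
theorem allC_E8_two {K : Type u} [Field K] (hK : Nat.card K = 2) : AllC ↥(chevE8.group K) := (row_E8_two hK).1

/-- **`E_8(2)`: products of involutions.** -/
theorem inv4_E8_two {K : Type u} [Field K] (hK : Nat.card K = 2) : Inv4 ↥(chevE8.group K) := (row_E8_two hK).2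

end Cfsg.Agent.H122.Ore.Blk
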