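import Cfsg.Agent.H85.Ore.Wt

/-!
# Exponents over the field with two elements (helper122, for S2443 and S4171)

`ne_one_two` : `z` of order `2 ^ (n + 2) - 1`, eigenvalues `z ^ 2 ^ b`: the values of the roots outside the block are not `1`.
-/

set_option autoImplicit false
set_option linter.unusedSectionVars false

namespace Cfsg.Agent.H122.Ore.Blk

open Cfsg.Agent.H85.Ore Cfsg.Lie Cfsg.Agent.ChevalleyStructure.RootVec
open Cfsg.Agent.ChevalleyStructure Cfsg.Agent.ChevalleyStructure.CoxeterGeomTypes Cfsg.Agent.Nodes.RGDChev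

variable {D : ChevalleyDatum} {l n : ℕ} {j : Fin (n + 1) → Fin l}

theorem sum_two (n : ℕ) : ∑ b : Fin n, (2 : ℤ) ^ (b : ℕ) = 2 ^ n - 1 := by
  induction n with
  | zero => simp
  | succ n ih => rw [Fin.sum_univ_castSucc]; simp only [Fin.val_castSucc, Fin.val_last, ih]; ring

theorem bound {N : ℕ} {w : Fin (N + 1) → ℤ} (h0 : ∀ b, w b = 0 ∨ w b = 1) (h1 : ∃ b, w b = 1) (hl : w (Fin.last N) = 0) :
    0 < ∑ b : Fin (N + 1), (2 : ℤ) ^ (b : ℕ) * w b ∧ ∑ b : Fin (N + 1), (2 : ℤ) ^ (b : ℕ) * w b ≤ 2 ^ N - 1 := by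
  constructor
  · obtain ⟨b, hb⟩ := h1
    refine Finset.sum_pos' (fun i _ => ?_) ⟨b, Finset.mem_univ b, ?_⟩
    · rcases h0 i with h | h <;> rw [h] <;> positivity
    · rw [hb]; positivity
  · rw [Fin.sum_univ_castSucc, hl, mul_zero, add_zero, ← sum_two N]
    refine Finset.sum_le_sum fun i _ => ?_
    rw [Fin.val_castSucc]
    have : (0 : ℤ) ≤ 2 ^ (i : ℕ) := by positivity
    rcases h0 i.castSucc with h | h <;> rw [h] <;> nlinarith

theorem ne_one_two {K' : Type*} [Field K'] {z : K'} (hz : orderOf z = 2 ^ (n + 2) - 1) {J : List (Fin l)}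
    (hW : ChkW D l J n j) {q : ℕ} (hq : q < D.nroots) (hk : ∃ k : Fin l, k ∉ J ∧ vec D l q k ≠ 0) :
    ∏ a : Fin (n + 1), (∏ b ∈ Finset.univ.filter (fun b : Fin (n + 2) => b ≤ a.castSucc), z ^ (2 ^ (b : ℕ))) ^
      D.cartan (j a) q ≠ 1 := by
  have hpow : 1 ≤ 2 ^ (n + 1) := Nat.one_le_two_pow
  have hpow2 : 2 ^ (n + 2) = 2 * 2 ^ (n + 1) := by ring
  have hz0 : z ≠ 0 := by
    rintro rfl
    have h1 : orderOf (0 : K') = 0 := by
      rw [orderOf_eq_zero_iff']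
      intro m hm
      rw [zero_pow hm.ne']
      exact zero_ne_one
    omega
  have hl := wt_last (D := D) (j := j) q
  rw [prod_wt (lam := fun b : Fin (n + 2) => z ^ (2 ^ (b : ℕ))) (fun a => pow_ne_zero _ hz0)]
  have h1 : ∀ b : Fin (n + 2), (z ^ (2 ^ (b : ℕ))) ^ wt D j q b = z ^ ((2 : ℤ) ^ (b : ℕ) * wt D j q b) := by
    intro b
    rw [← zpow_natCast, ← zpow_mul]
    push_cast
    rfl
  rw [Finset.prod_congr rfl fun b _ => h1 b, prod_zpow' hz0]
  have key : ∀ N : ℤ, 0 < N → N ≤ 2 ^ (n + 1) - 1 → z ^ N ≠ 1 := by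
    intro N h2 h3 h4
    obtain ⟨m, rfl⟩ := Int.eq_ofNat_of_zero_le h2.le
    rw [zpow_natCast] at h4
    have h5 := Nat.le_of_dvd (by omega) (orderOf_dvd_of_pow_eq_one h4)
    have h6 : ((m : ℕ) : ℤ) ≤ ((2 ^ (n + 1) : ℕ) : ℤ) - 1 := by push_cast; exact h3
    omega
  rcases hW q hq hk with ⟨h, h'⟩ | ⟨h, b, hb⟩
  · obtain ⟨h2, h3⟩ := bound (w := wt D j q) h h' hl
    exact key _ h2 h3
  · obtain ⟨h2, h3⟩ := bound (w := fun b => -wt D j q b) (fun b => by rcases h b with h | h <;> simp [h])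
      ⟨b, by simp [hb]⟩ (by simp [hl])
    have h4 : ∑ b : Fin (n + 2), (2 : ℤ) ^ (b : ℕ) * -wt D j q b = -∑ b : Fin (n + 2), (2 : ℤ) ^ (b : ℕ) * wt D j q b := by
      rw [← Finset.sum_neg_distrib]
      exact Finset.sum_congr rfl fun b _ => by ring
    rw [h4] at h2 h3
    intro h5
    apply key _ h2 h3
    rw [zpow_neg, h5, inv_one]

end Cfsg.Agent.H122.Ore.Blk
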